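import Cfsg.Agent.Lib.BGRep.HallHigmanOdd

/-!
An operator of odd prime order `r` without fixed vectors, acting fixed point freely on a twisted
group algebra of order `n ^ 2`, forces `n ≤ r - 1` (any parity of `n`).
-/

set_option autoImplicit false
set_option linter.style.haveILetI false

namespace CfsgLib.BGRep

variable {k : Type*} [Field k] [IsAlgClosed k] {U : Type*} [AddCommGroup U] [Module k U]
  [FiniteDimensional k U] {E : Type*} [CommGroup E] [Fintype E]
variable {T : E → (Module.End k U)ˣ} {β : E →* E →* kˣ}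

section
variable [Nontrivial U]

/-- The eigenvalue bound after reduction to an irreducible twisted group algebra. -/
theorem fpf_bound_irreducible {r : ℕ} (hr : r.Prime) (hrk : (r : k) ≠ 0)
    (hT : Twisted T β) (hE : (Nat.card E : k) ≠ 0)
    (hirr : ∀ V : Submodule k U, (∀ a, ∀ v ∈ V, (T a : Module.End k U) v ∈ V) → V = ⊥ ∨ V = ⊤)
    (X : (Module.End k U)ˣ) (hX : X ^ r = 1) (φ : MulAut E) (hφr : φ ^ r = 1)
    (hφ : ∀ e, φ e = e → e = 1)
    (hXT : ∀ e, ∃ c : k, c ≠ 0 ∧
      (X : Module.End k U) * T e * ↑X⁻¹ = c • (T (φ e) : Module.End k U))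
    (hfix : ∀ v, (X : Module.End k U) v = v → v = 0) :
    ∃ n : ℕ, Nat.card E = n ^ 2 ∧ r ∣ n ^ 2 - 1 ∧ n + 1 ≤ r := by
  classical
  let A := Multiplicative (ZMod r)
  haveI : NeZero r := ⟨hr.ne_zero⟩
  let σ : A →* Module.End k U :=
    { toFun := fun i => ((X ^ (Multiplicative.toAdd i).val : (Module.End k U)ˣ) : Module.End k U)
      map_one' := by simp
      map_mul' := fun i j => by
        rw [← Units.val_mul, ← pow_add]
        congr 1
        rw [toAdd_mul, ZMod.val_add]
        conv_rhs => rw [← Nat.mod_add_div ((Multiplicative.toAdd i).val +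
          (Multiplicative.toAdd j).val) r, pow_add, pow_mul, hX, one_pow, mul_one] }
  have hAc : Nat.card A = r :=
    (Nat.card_congr (Multiplicative.toAdd (α := ZMod r))).trans (Nat.card_zmod r)
  have hA : (Nat.card A : k) ≠ 0 := by rwa [hAc]
  haveI := finite_dual (k := k) hA
  letI := Fintype.ofFinite (A →* kˣ)
  have hσ1 : σ (Multiplicative.ofAdd 1) = (X : Module.End k U) := by
    haveI : Fact (1 < r) := ⟨hr.one_lt⟩
    show ((X ^ (1 : ZMod r).val : (Module.End k U)ˣ) : Module.End k U) = _
    rw [ZMod.val_one, pow_one]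
  -- the averaging map onto the commutant
  letI : Fintype A := inferInstanceAs (Fintype (Multiplicative (ZMod r)))
  let P : Module.End k U →ₗ[k] Module.End k U :=
    (r : k)⁻¹ • ∑ a : A, LinearMap.mulLeftRight k (σ a, σ a⁻¹)
  have hP : ∀ M, P M = (r : k)⁻¹ • ∑ a : A, σ a * M * σ a⁻¹ := fun M => by
    simp [P, LinearMap.sum_apply]
  have hPX : ∀ M, P ((X : Module.End k U) * M * ↑X⁻¹) = P M := by
    intro M
    rw [hP, hP]
    congr 1
    have hinv : (↑X⁻¹ : Module.End k U) = σ (Multiplicative.ofAdd 1)⁻¹ := by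
      refine Units.inv_eq_of_mul_eq_one_right ?_
      rw [← hσ1, ← map_mul, mul_inv_cancel, map_one]
    refine Fintype.sum_equiv (Equiv.mulRight (Multiplicative.ofAdd (1 : ZMod r))) _ _ fun a => ?_
    rw [Equiv.coe_mulRight, hinv, ← hσ1, mul_inv_rev, map_mul, map_mul]
    simp [mul_assoc]
  let Q := MulAction.orbitRel.Quotient (Subgroup.zpowers φ) E
  haveI : Finite Q := Quotient.finite _
  letI := Fintype.ofFinite Q
  set S := Submodule.span k (Set.range fun q : Q => P (T (Quotient.out q) : Module.End k U)) with hSdef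
  have hPT : ∀ e, P (T e : Module.End k U) ∈ S := by
    intro e
    have hq : Quotient.out (Quotient.mk'' e : Q) ∈ MulAction.orbit (Subgroup.zpowers φ) e :=
      Quotient.eq''.mp (Quotient.out_eq' (Quotient.mk'' e : Q))
    obtain ⟨⟨g, hg⟩, hge⟩ := MulAction.mem_orbit_symm.mp hq
    obtain ⟨i, rfl⟩ := mem_powers_iff_mem_zpowers.mpr hg
    change (φ ^ i) (Quotient.out (Quotient.mk'' e : Q)) = e at hge
    suffices h : ∀ (j : ℕ) (e₀ : E), P (T e₀ : Module.End k U) ∈ S →
        P (T ((φ ^ j) e₀) : Module.End k U) ∈ S by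
      rw [← hge]
      exact h i _ (Submodule.subset_span ⟨_, rfl⟩)
    intro j e₀ h0
    induction j with
    | zero => simpa using h0
    | succ j ih =>
      obtain ⟨c, hc, hXe⟩ := hXT ((φ ^ j) e₀)
      rw [pow_succ', MulAut.mul_apply]
      have h1 : P (T (φ ((φ ^ j) e₀)) : Module.End k U) = c⁻¹ • P (T ((φ ^ j) e₀) : Module.End k U) := by
        rw [← hPX (T ((φ ^ j) e₀) : Module.End k U), hXe, map_smul, smul_smul,
          inv_mul_cancel₀ hc, one_smul]
      rw [h1]
      exact S.smul_mem _ ih
  have hS : ∀ M, (∀ a, Commute (σ a) M) → M ∈ S := by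
    intro M hM
    have hPM : P M = M := by
      rw [hP]
      have : ∀ a : A, σ a * M * σ a⁻¹ = M := fun a => by
        rw [(hM a).eq, mul_assoc, ← map_mul, mul_inv_cancel, map_one, mul_one]
      simp only [this, Finset.sum_const, Finset.card_univ, ← Nat.card_eq_fintype_card, hAc,
        ← Nat.cast_smul_eq_nsmul k, smul_smul, inv_mul_cancel₀ hrk, one_smul]
    rw [← hPM]
    have h : M ∈ Submodule.span k (Set.range fun e => (T e : Module.End k U)) := by
      rw [hT.span_eq_top hE hirr]; trivial
    clear hPM hM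
    induction h using Submodule.span_induction with
    | mem x hx => obtain ⟨e, rfl⟩ := hx; exact hPT e
    | zero => simp
    | add a b _ _ ha hb => rw [map_add]; exact S.add_mem ha hb
    | smul c a _ ha => rw [map_smul]; exact S.smul_mem c ha
  obtain ⟨hsum, hsq⟩ := eigen_bound hA σ S hS
  have hScard : Module.finrank k S ≤ Nat.card Q := by
    rw [Nat.card_eq_fintype_card]
    exact finrank_range_le_card _
  set n := Module.finrank k U
  have hnE : Nat.card E = n ^ 2 := hT.finrank_sq hE hirr
  have hd : Module.finrank k (wtSpace σ (1 : A →* kˣ)) = 0 := by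
    rw [Submodule.finrank_eq_zero, Submodule.eq_bot_iff]
    intro v hv
    have := mem_wtSpace.mp hv (Multiplicative.ofAdd 1)
    rw [hσ1, MonoidHom.one_apply, Units.val_one, one_smul] at this
    exact hfix v this
  have hcardDual : Fintype.card (A →* kˣ) = r := by
    haveI := hasEnoughRoots (k := k) hA
    rw [← Nat.card_eq_fintype_card, CommGroup.card_monoidHom_of_hasEnoughRootsOfUnity, hAc]
  let rest := Finset.univ.erase (1 : A →* kˣ)
  have hrest : rest.card = r - 1 := by
    rw [Finset.card_erase_of_mem (Finset.mem_univ _), Finset.card_univ, hcardDual]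
  have hsplit : n = ∑ ω ∈ rest, Module.finrank k (wtSpace σ ω) := by
    rw [Finset.sum_erase (f := fun ω : A →* kˣ => Module.finrank k (wtSpace σ ω)) Finset.univ hd]
    exact hsum
  have hle : ∑ ω ∈ rest, Module.finrank k (wtSpace σ ω) ^ 2 ≤ Nat.card Q :=
    (Finset.sum_le_sum_of_subset (Finset.erase_subset _ _)).trans (hsq.trans hScard)
  have hcs := sq_sum_le_card_mul_sum_sq (s := rest)
    (f := fun ω : A →* kˣ => Module.finrank k (wtSpace σ ω))
  rw [hrest, ← hsplit] at hcs
  have hb : n ^ 2 ≤ (r - 1) * Nat.card Q := hcs.trans (Nat.mul_le_mul_left _ hle)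
  have hK : r * Nat.card Q + 1 = n ^ 2 + r := hnE ▸ card_orbits hr φ hφr hφ
  have hK1 : 1 ≤ Nat.card Q := by
    by_contra h
    have : Nat.card Q = 0 := by omega
    rw [this, mul_zero] at hK
    have := hr.two_le
    omega
  obtain ⟨s, hs⟩ : ∃ s, r = s + 1 := ⟨r - 1, by have := hr.two_le; omega⟩
  rw [show r - 1 = s by omega] at hb
  refine ⟨n, hnE, ⟨Nat.card Q - 1, ?_⟩, ?_⟩
  · rw [Nat.mul_sub, mul_one]
    have : r ≤ r * Nat.card Q := Nat.le_mul_of_pos_right r hK1
    omega
  · have h3 : r * n ^ 2 ≤ s * (r * Nat.card Q) := by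
      calc r * n ^ 2 ≤ r * (s * Nat.card Q) := Nat.mul_le_mul_left r hb
        _ = s * (r * Nat.card Q) := by ring
    rw [show r * Nat.card Q = n ^ 2 + s by omega, hs] at h3
    have h4 : n ^ 2 ≤ s ^ 2 := by
      ring_nf at h3 ⊢
      omega
    have := (Nat.pow_le_pow_iff_left two_ne_zero).mp h4
    omega

end

/-- An operator of odd prime order without fixed vectors permuting a twisted group algebra freely
bounds its dimension. -/
theorem fpf_bound {r : ℕ} (hr : r.Prime) (hrk : (r : k) ≠ 0)
    (hT : Twisted T β) (hE : (Nat.card E : k) ≠ 0) [Nontrivial U]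
    (X : (Module.End k U)ˣ) (hX : X ^ r = 1) (φ : MulAut E) (hφr : φ ^ r = 1)
    (hφ : ∀ e, φ e = e → e = 1)
    (hXT : ∀ e, ∃ c : k, c ≠ 0 ∧
      (X : Module.End k U) * T e * ↑X⁻¹ = c • (T (φ e) : Module.End k U))
    (hfix : ∀ v, (X : Module.End k U) v = v → v = 0) :
    ∃ n : ℕ, Nat.card E = n ^ 2 ∧ r ∣ n ^ 2 - 1 ∧ n + 1 ≤ r := by
  classical
  let f : E → Module.End k U := fun a => (T a : Module.End k U) * ↑X⁻¹ * ↑(T a)⁻¹
  let Ψ : Module.End k U := ∑ a, f a
  have hΨT : ∀ b, Commute (T b : Module.End k U) Ψ := fun b => hT.commute_sum _ b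
  have hφbij : Function.Bijective fun a : E => φ a * a⁻¹ := by
    refine Finite.injective_iff_bijective.mp fun a b hab => ?_
    have h1 : φ (a * b⁻¹) = a * b⁻¹ := by
      have h2 : φ a = φ b * b⁻¹ * a := by rw [← hab, inv_mul_cancel_right]
      rw [map_mul, map_inv, h2, mul_assoc, mul_assoc, mul_comm (b⁻¹) (a * (φ b)⁻¹),
        ← mul_assoc, ← mul_assoc]
      simp [mul_comm]
    exact mul_inv_eq_one.mp (hφ _ h1)
  choose c hc hXc using hXT
  choose d hd hdT using hT.inv_eq
  choose m hm hmT using hT.mul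
  let co : E → k := fun a => c a * (d a * m (φ a) a⁻¹)
  have hY : (X : Module.End k U) * Ψ = ∑ a, co a • (T (φ a * a⁻¹) : Module.End k U) := by
    rw [Finset.mul_sum]
    refine Finset.sum_congr rfl fun a _ => ?_
    calc (X : Module.End k U) * f a
        = ((X : Module.End k U) * T a * ↑X⁻¹) * ↑(T a)⁻¹ := by simp only [f, mul_assoc]
      _ = (c a • (T (φ a) : Module.End k U)) * (d a • (T a⁻¹ : Module.End k U)) := by
          rw [hXc, hdT]
      _ = co a • (T (φ a * a⁻¹) : Module.End k U) := by
          rw [smul_mul_smul_comm, hmT, smul_smul]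
          congr 1
          simp only [co]; ring
  -- on an invariant nonzero subspace, `XΨ` is nonzero
  have hinj : ∀ V : Submodule k U, (∀ a, ∀ v ∈ V, (T a : Module.End k U) v ∈ V) → V ≠ ⊥ →
      ∃ v ∈ V, ((X : Module.End k U) * Ψ) v ≠ 0 := by
    intro V hV hne
    by_contra hall
    push Not at hall
    haveI : Nontrivial V := (Submodule.nontrivial_iff_ne_bot).mpr hne
    let T' : E → (Module.End k V)ˣ := fun a =>
      restrictUnit V (T a) (hV a) (fun v hv => hT.inv_mem hV a v hv)
    have hT' : Twisted T' β := by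
      refine ⟨fun a b => ⟨m a b, hm a b, LinearMap.ext fun v => Subtype.ext ?_⟩,
        fun a b => LinearMap.ext fun v => Subtype.ext ?_, hT.left, hT.right⟩
      · simp only [T', Module.End.mul_apply, LinearMap.smul_apply, restrictUnit_apply,
          SetLike.val_smul]
        rw [← Module.End.mul_apply, hmT, LinearMap.smul_apply]
      · simp only [T', Module.End.mul_apply, LinearMap.smul_apply, restrictUnit_apply,
          restrictUnit_inv_apply, SetLike.val_smul]
        rw [← LinearMap.smul_apply, ← hT.conj, Module.End.mul_apply, Module.End.mul_apply]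
    let e := Equiv.ofBijective _ hφbij
    have hz : ∑ g, co (e.symm g) • (T' g : Module.End k V) = 0 := by
      refine LinearMap.ext fun v => Subtype.ext ?_
      simp only [LinearMap.sum_apply, LinearMap.smul_apply, Submodule.coe_sum, SetLike.val_smul,
        T', restrictUnit_apply, LinearMap.zero_apply, Submodule.coe_zero]
      have h1 : ∑ g, co (e.symm g) • (T g : Module.End k U) (v : U) =
          ((X : Module.End k U) * Ψ) (v : U) := by
        rw [hY, LinearMap.sum_apply]
        refine Fintype.sum_equiv e.symm _ _ fun g => ?_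
        rw [LinearMap.smul_apply]
        have : φ (e.symm g) * (e.symm g)⁻¹ = g := e.apply_symm_apply g
        rw [this]
      rw [h1]
      exact hall v v.2
    have := hT'.linearIndependent hE _ hz (e 1)
    rw [Equiv.symm_apply_apply] at this
    exact mul_ne_zero (hc 1) (mul_ne_zero (hd 1) (hm _ _)) this
  obtain ⟨η, hη⟩ := Module.End.exists_eigenvalue Ψ
  have hη0 : η ≠ 0 := by
    rintro rfl
    obtain ⟨v, hv, hv0⟩ := hinj (Ψ.eigenspace 0) (fun a v hv => by
      rw [Module.End.mem_eigenspace_iff] at hv ⊢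
      rw [← Module.End.mul_apply, ← (hΨT a).eq, Module.End.mul_apply, hv, map_smul]) hη
    rw [Module.End.mem_eigenspace_iff, zero_smul] at hv
    rw [Module.End.mul_apply, hv, map_zero] at hv0
    exact hv0 rfl
  obtain ⟨V, hVmin⟩ : ∃ V, Minimal (fun V : Submodule k U => V ≠ ⊥ ∧ V ≤ Ψ.eigenspace η ∧
      ∀ a, ∀ v ∈ V, (T a : Module.End k U) v ∈ V) V := by
    obtain ⟨V, hV, hmin⟩ := wellFounded_lt.has_min
      {V : Submodule k U | V ≠ ⊥ ∧ V ≤ Ψ.eigenspace η ∧
        ∀ a, ∀ v ∈ V, (T a : Module.End k U) v ∈ V}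
      ⟨Ψ.eigenspace η, hη, le_rfl, fun a v hv => by
        rw [Module.End.mem_eigenspace_iff] at hv ⊢
        rw [← Module.End.mul_apply, ← (hΨT a).eq, Module.End.mul_apply, hv, map_smul]⟩
    exact ⟨V, hV, fun V' hV' hle => (eq_of_le_of_not_lt hle (hmin V' hV')).ge⟩
  obtain ⟨hVne, hVη, hVinv⟩ := hVmin.prop
  haveI : Nontrivial V := (Submodule.nontrivial_iff_ne_bot).mpr hVne
  have hXV : ∀ v ∈ V, (X : Module.End k U) v ∈ V := by
    intro v hv
    have h1 : (X : Module.End k U) v = η⁻¹ • ((X : Module.End k U) * Ψ) v := by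
      rw [Module.End.mul_apply, Module.End.mem_eigenspace_iff.mp (hVη hv), map_smul, smul_smul,
        inv_mul_cancel₀ hη0, one_smul]
    rw [h1, hY, LinearMap.sum_apply]
    exact V.smul_mem _ (Submodule.sum_mem _ fun a _ => V.smul_mem _ (hVinv _ v hv))
  have hXV' : ∀ v ∈ V, (↑X⁻¹ : Module.End k U) v ∈ V := by
    have h1 : X⁻¹ = X ^ (r - 1) := inv_eq_of_mul_eq_one_right (by
      rw [← pow_succ', Nat.sub_add_cancel hr.one_le, hX])
    rw [h1]
    intro v hv
    induction r - 1 with
    | zero => simpa using hv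
    | succ n ih =>
      rw [pow_succ', Units.val_mul, Module.End.mul_apply]
      exact hXV _ ih
  let T' : E → (Module.End k V)ˣ := fun a =>
    restrictUnit V (T a) (hVinv a) (fun v hv => hT.inv_mem hVinv a v hv)
  have hT' : Twisted T' β := by
    refine ⟨fun a b => ⟨m a b, hm a b, LinearMap.ext fun v => Subtype.ext ?_⟩,
      fun a b => LinearMap.ext fun v => Subtype.ext ?_, hT.left, hT.right⟩
    · simp only [T', Module.End.mul_apply, LinearMap.smul_apply, restrictUnit_apply,
        SetLike.val_smul]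
      rw [← Module.End.mul_apply, hmT, LinearMap.smul_apply]
    · simp only [T', Module.End.mul_apply, LinearMap.smul_apply, restrictUnit_apply,
        restrictUnit_inv_apply, SetLike.val_smul]
      rw [← LinearMap.smul_apply, ← hT.conj, Module.End.mul_apply, Module.End.mul_apply]
  let X' := restrictUnit V X hXV hXV'
  have hX' : X' ^ r = 1 := by
    have h1 : ∀ (n : ℕ) (v : V), (((X' ^ n : (Module.End k V)ˣ) : Module.End k V) v : U) =
        ((X ^ n : (Module.End k U)ˣ) : Module.End k U) v := by
      intro n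
      induction n with
      | zero => simp
      | succ n ih =>
        intro v
        simp only [pow_succ', Units.val_mul, Module.End.mul_apply]
        exact congrArg (X : Module.End k U) (ih v)
    refine Units.ext (LinearMap.ext fun v => Subtype.ext ?_)
    rw [h1, hX]
    simp
  have hirr : ∀ V' : Submodule k V, (∀ a, ∀ v ∈ V', (T' a : Module.End k V) v ∈ V') →
      V' = ⊥ ∨ V' = ⊤ := by
    intro V' hV'
    by_cases hb : V' = ⊥
    · exact Or.inl hb
    refine Or.inr ?_
    have h1 : V'.map V.subtype ≤ V := Submodule.map_subtype_le V V'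
    have h2 := hVmin.eq_of_le ⟨(fun h => hb (Submodule.map_injective_of_injective V.injective_subtype (by rw [h, Submodule.map_bot]))), h1.trans hVη, by
      rintro a _ ⟨w, hw, rfl⟩
      exact ⟨_, hV' a w hw, rfl⟩⟩ h1
    refine eq_top_iff.mpr fun w _ => ?_
    obtain ⟨w', hw', he⟩ := h2.ge w.2
    rwa [← Subtype.ext he]
  obtain ⟨n, hn, hn2, hn3⟩ := fpf_bound_irreducible hr hrk hT' hE hirr X' hX'
    φ hφr hφ (fun e => ⟨c e, hc e, LinearMap.ext fun v => Subtype.ext (by
      simp only [X', T', Module.End.mul_apply, restrictUnit_apply, restrictUnit_inv_apply,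
        LinearMap.smul_apply, SetLike.val_smul]
      rw [← LinearMap.smul_apply, ← hXc, Module.End.mul_apply, Module.End.mul_apply])⟩)
    (fun v hv => Subtype.ext (hfix v (congrArg Subtype.val hv)))
  exact ⟨n, hn, hn2, hn3⟩

end CfsgLib.BGRep
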